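import Groth.Agent.AVDualExist.Exists
import Groth.Agent.ThetaLib.Scalar
import Groth.Agent.EtFound.TopInv
import Groth.Agent.S12404
import Groth.Agent.S2794
import Groth.Agent.S5798
import Groth.Agent.S1618
import Mathlib.RingTheory.FiniteLength

/-!
# The Picard scheme of an abelian variety over an algebraically closed field
-/

noncomputable section

set_option autoImplicit false
set_option linter.style.haveILetI false
set_option linter.unusedSectionVars false
set_option backward.isDefEq.respectTransparency false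
set_option backward.isDefEq.respectTransparency.types false
set_option maxHeartbeats 2000000

universe u

open CategoryTheory CategoryTheory.Limits MonoidalCategory CartesianMonoidalCategory MonObj AlgebraicGeometry TopologicalSpace IsLocalRing

namespace Groth.Agent.AVPicSmooth

open Groth.Agent Groth.Agent.H23 Groth.Agent.AVPair Groth.Agent.AVDualExist
open scoped Groth.Agent.H23.PicMul

/-- A local artinian algebra with residue field `k` is finite. -/
theorem finite_of_residue (k R : Type u) [Field k] [CommRing R] [Algebra k R] [IsLocalRing R] [IsArtinianRing R]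
    (h : ∀ r : R, ∃ a : k, r - algebraMap k R a ∈ maximalIdeal R) : Module.Finite k R := by
  suffices key : ∀ (M : Type u) [AddCommGroup M] [Module R M], IsFiniteLength R M →
      letI := Module.compHom M (algebraMap k R)
      Module.Finite k M from by
    have h1 := key R (isFiniteLength_iff_isNoetherian_isArtinian.2
      ⟨(inferInstance : IsNoetherianRing R), (inferInstance : IsArtinianRing R)⟩)
    have e : Module.compHom R (algebraMap k R) = Algebra.toModule :=
      Module.ext' _ _ fun a r => (Algebra.smul_def a r).symm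
    rwa [e] at h1
  intro M _ _ hM
  induction hM with
  | @of_subsingleton M _ _ _ =>
    letI := Module.compHom M (algebraMap k R)
    exact inferInstance
  | @of_simple_quotient M _ _ N _ _ ih =>
    letI := Module.compHom M (algebraMap k R)
    haveI : IsScalarTower k R M := IsScalarTower.of_algebraMap_smul fun _ _ => rfl
    haveI : Module.Finite k (N.restrictScalars k) := ih
    haveI : Module.Finite k (M ⧸ N.restrictScalars k) := by
      obtain ⟨I, hI, ⟨e⟩⟩ := isSimpleModule_iff_quot_maximal.1 ‹IsSimpleModule R (M ⧸ N)›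
      haveI : Module.Finite k (R ⧸ I) := by
        refine Module.Finite.of_surjective (Algebra.linearMap k (R ⧸ I)) fun x => ?_
        obtain ⟨r, rfl⟩ := Ideal.Quotient.mk_surjective x
        obtain ⟨a, ha⟩ := h r
        refine ⟨a, (Ideal.Quotient.eq.2 ?_).symm⟩
        rwa [IsLocalRing.eq_maximalIdeal hI]
      haveI : Module.Finite k (M ⧸ N) := Module.Finite.equiv (e.symm.restrictScalars k)
      exact Module.Finite.equiv (Submodule.Quotient.restrictScalarsEquiv k N).symm
    exact Module.Finite.of_submodule_quotient (N.restrictScalars k)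

variable {k : Type u} [Field k] [IsAlgClosed k]

local notation "pt₀" => 𝟙_ (Over (Spec (CommRingCat.of k)))

/-- Rational points with the same image agree. -/
theorem pt_ext {X : Over (Spec (CommRingCat.of k))} [LocallyOfFiniteType X.hom] {a b : pt₀ ⟶ X}
    (h : a.left (closedPoint k) = b.left (closedPoint k)) : a = b :=
  Over.OverMorphism.ext (congrArg Subtype.val ((pointEquivClosedPoint X.hom).injective
    (a₁ := ⟨a.left, Over.w a⟩) (a₂ := ⟨b.left, Over.w b⟩) (Subtype.ext h)))

/-- **Artinian criterion for an open immersion near a rational point.** -/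
theorem exists_open_immersion_of_artin {Q P : Over (Spec (CommRingCat.of k))} [LocallyOfFiniteType Q.hom]
    [LocallyOfFiniteType P.hom] (io : Q ⟶ P) [Mono io] (q : pt₀ ⟶ Q)
    (hart : ∀ (R : Type u) [CommRing R] [Algebra k R] [IsLocalRing R] [Module.Finite k R] (εR : R →ₐ[k] k)
      (w : TR k R ⟶ P), pR εR ≫ w = q ≫ io → ∃ z : TR k R ⟶ Q, pR εR ≫ z = q ∧ z ≫ io = w) :
    ∃ U : Q.left.Opens, q.left (closedPoint k) ∈ U ∧ IsOpenImmersion (U.ι ≫ io.left) := by
  let x : Q.left := q.left (closedPoint k)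
  haveI : IsLocallyNoetherian P.left := LocallyOfFiniteType.isLocallyNoetherian P.hom
  haveI : LocallyOfFiniteType io.left := by
    haveI : LocallyOfFiniteType (io.left ≫ P.hom) := by rw [Over.w]; infer_instance
    exact locallyOfFiniteType_of_comp io.left P.hom
  haveI : Mono io.left := Over.mono_left_of_mono io
  obtain ⟨U, hxU, hU⟩ := (S2794.result io.left x).2 fun A' _ _ _ h _ I hI _ g₀ hg₀ hg₁ hg₂ => by
    let cA : k →+* A' := h.comp (AVDualCx.scalAt P (io.left x))
    letI algA : Algebra k A' := cA.toAlgebra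
    obtain ⟨ev, hevker, hevk, -⟩ := exists_ev q (s := x) rfl
    have hsm : (io.left.stalkMap x).hom.comp (AVDualCx.scalAt P (io.left x)) = AVDualCx.scalAt Q x := by
      refine comp_scalAt _ _ (f := Spec.map (io.left.stalkMap x) ≫ P.left.fromSpecStalk _) rfl ?_
      rw [Scheme.SpecMap_stalkMap_fromSpecStalk, Category.assoc, Over.w, ← AVDualCx.scalAt_spec]
    have hg₀k : g₀.comp (AVDualCx.scalAt Q x) = (Ideal.Quotient.mk I).comp cA := by
      rw [← hsm, ← RingHom.comp_assoc, hg₀, RingHom.comp_assoc]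
    have hres : ∀ r : A', ∃ a : k, r - algebraMap k A' a ∈ maximalIdeal A' := fun r => by
      obtain ⟨b, hb⟩ := hg₂ r
      refine ⟨ev b, ?_⟩
      have h1 : g₀ (b - AVDualCx.scalAt Q x (ev b)) ∈ (maximalIdeal A').map (Ideal.Quotient.mk I) := hg₁ _ (by
        rw [← hevker, RingHom.mem_ker, map_sub, ← RingHom.comp_apply, hevk, RingHom.id_apply, sub_self])
      rw [map_sub, ← RingHom.comp_apply g₀, hg₀k] at h1
      have h2 := Ideal.sub_mem _ h1 hb
      rw [sub_sub_sub_cancel_left, RingHom.comp_apply, ← map_sub, Ideal.mem_quotient_iff_mem] at h2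
      · exact h2
      · exact IsLocalRing.le_maximalIdeal hI
    haveI : Module.Finite k A' := finite_of_residue k A' hres
    have hbij : Function.Bijective (algebraMap k (A' ⧸ maximalIdeal A')) :=
      ⟨(algebraMap k _).injective, fun y => by
        obtain ⟨r, rfl⟩ := Ideal.Quotient.mk_surjective y
        obtain ⟨a, ha⟩ := hres r
        exact ⟨a, (Ideal.Quotient.eq.2 ha).symm⟩⟩
    let εR : A' →ₐ[k] k := (AlgEquiv.ofBijective (Algebra.ofId k (A' ⧸ maximalIdeal A')) hbij).symm.toAlgHom.comp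
      (Ideal.Quotient.mkₐ k (maximalIdeal A'))
    let w : TR k A' ⟶ P := Over.homMk (Spec.map (CommRingCat.ofHom h) ≫ P.left.fromSpecStalk (io.left x)) (by
      rw [Category.assoc, ← AVDualCx.scalAt_spec, ← Spec.map_comp]
      rfl)
    haveI : IsLocalHom εR.toRingHom := IsLocalHom.of_surjective _ (surjective_toAlg εR)
    have hw : pR εR ≫ w = q ≫ io := by
      refine pt_ext ?_
      rw [Over.comp_left, Over.comp_left, Scheme.Hom.comp_apply, Scheme.Hom.comp_apply]
      show w.left (Spec.map (CommRingCat.ofHom εR.toRingHom) (closedPoint k)) = io.left x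
      rw [spec_closedPoint εR.toRingHom]
      show (Spec.map (CommRingCat.ofHom h) ≫ P.left.fromSpecStalk (io.left x)) (closedPoint A') = io.left x
      rw [Scheme.Hom.comp_apply, spec_closedPoint h]
      exact Scheme.fromSpecStalk_closedPoint
    obtain ⟨z, hz, hzw⟩ := hart A' εR w hw
    have hzx : z.left (closedPoint A') = x := by
      rw [← spec_closedPoint εR.toRingHom]
      refine (Scheme.Hom.comp_apply _ _ _).symm.trans ?_
      exact congrArg (fun m : pt₀ ⟶ Q => m.left (closedPoint k)) hz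
    obtain ⟨g, hg⟩ := exists_stalk_hom z.left hzx
    have hlift : ∀ (C : Type u) [CommRing C] (a : Q.left.presheaf.stalk x →+* C) (b : P.left.presheaf.stalk (io.left x) →+* C),
        a.comp (io.left.stalkMap x).hom = b ↔ (Spec.map (CommRingCat.ofHom a) ≫ Q.left.fromSpecStalk x) ≫ io.left =
          Spec.map (CommRingCat.ofHom b) ≫ P.left.fromSpecStalk (io.left x) := fun C _ a b => by
      rw [Category.assoc, ← Scheme.SpecMap_stalkMap_fromSpecStalk, ← Category.assoc, ← Spec.map_comp]
      exact ⟨fun e => by rw [← e]; rfl, fun e => stalk_hom_ext e⟩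
    have hgh : g.comp (io.left.stalkMap x).hom = h := (hlift A' g h).2 (by
      rw [hg, ← Over.comp_left, hzw]
      rfl)
    refine ⟨g, ⟨hgh, ?_⟩, fun g' ⟨hg', _⟩ => ?_⟩
    · have e2 := (hlift (A' ⧸ I) g₀ _).1 hg₀
      have e1 := (hlift (A' ⧸ I) ((Ideal.Quotient.mk I).comp g) _).1 (by rw [RingHom.comp_assoc, hgh])
      exact stalk_hom_ext ((cancel_mono io.left).1 (e1.trans e2.symm))
    · have e1 := (hlift A' g h).1 hgh
      have e2 := (hlift A' g' h).1 hg'
      exact stalk_hom_ext ((cancel_mono io.left).1 (e2.trans e1.symm))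
  haveI := hU
  haveI : Mono (U.ι ≫ io.left) := mono_comp _ _
  exact ⟨U, hxU, EtFound.isOpenImmersion_of_etale_univInj (U.ι ≫ io.left)⟩

/-- **The Picard scheme of an abelian variety over an algebraically closed field is smooth of dimension `g`.** -/
theorem smooth_and_dim (A : Over (Spec (CommRingCat.of k))) [GrpObj A] [IsProper A.hom]
    [GeometricallyIntegral A.hom] (g : ℕ) (hg : topologicalKrullDim ↥A.left = g)
    (P : Over (Spec (CommRingCat.of k))) (φ : ∀ T : Over (Spec (CommRingCat.of k)), PicF.Cl (PicF.XT A.hom T) → (T ⟶ P))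
    (hP : AbDual.IsRelPicK Scheme.fppfPrecoverage A.hom P φ) [LocallyOfFiniteType P.hom] :
    Smooth P.hom ∧ topologicalKrullDim ↥P.left = g := by
  obtain ⟨Q, _, q, c, hQp, hQg, hqm, hqs, hqf, hqfin, hc⟩ := exists_pfam A
  haveI := hQp; haveI := hQg; haveI := hqs; haveI := hqfin
  haveI : IsLocallyNoetherian A.left := LocallyOfFiniteType.isLocallyNoetherian A.hom
  haveI : IsLocallyNoetherian Q.left := LocallyOfFiniteType.isLocallyNoetherian Q.hom
  haveI : IsIntegral Q.left := GeometricallyIntegral.isIntegral_of_subsingleton Q.hom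
  have hgQ : topologicalKrullDim ↥Q.left = g :=
    (AVDualCx.dim_eq_of_finite_surjective q.left).symm.trans hg
  haveI : Smooth Q.hom := (isAbSch_of_dim Q g hgQ).smooth
  have ha : ∀ (T : Over (Spec (CommRingCat.of k))) (U : T.left.Opens), IsIso ((PicF.XTproj A.hom T).app U) :=
    fun T U => (ConcreteCategory.isIso_iff_bijective _).2 (Rigid.bijective_app_snd_of_bijective A.hom T.hom
      (haveI : GeometricallyConnected A.hom := CubeAb.geometricallyConnected_of_integral A.hom
       CubeField.bijective_appTop_of_connected A) U)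
  have hbij := fun T => S12404.result A.hom η[A].left (Over.w η[A]) ha P φ hP T
  -- rigidified classes are classes trivial on the unit section
  have hsec : ∀ (T : Over (Spec (CommRingCat.of k))) (d : PicF.Cl (A ⊗ T).left),
      PicF.pullCl (PicF.secT A.hom η[A].left (Over.w η[A]) T) d = pl (lift (1 : T ⟶ A) (𝟙 T)) d := fun T d => by
    refine congrArg (fun w => PicF.pullCl w d) (pullback.hom_ext ?_ ?_)
    · refine (pullback.lift_fst _ _ _).trans ?_
      refine Eq.trans ?_ (congrArg CommaMorphism.left (lift_fst (1 : T ⟶ A) (𝟙 T))).symm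
      rfl
    · exact (pullback.lift_snd _ _ _).trans (congrArg CommaMorphism.left (lift_snd (1 : T ⟶ A) (𝟙 T))).symm
  have hinj : ∀ (T : Over (Spec (CommRingCat.of k))) (d d' : PicF.Cl (A ⊗ T).left), PicF.IsInvertibleCl d →
      pl (lift (1 : T ⟶ A) (𝟙 T)) d = 1 → PicF.IsInvertibleCl d' → pl (lift (1 : T ⟶ A) (𝟙 T)) d' = 1 →
      φ T d = φ T d' → d = d' := fun T d d' hd hd1 hd' hd1' e =>
    congrArg Subtype.val ((hbij T).1
      (a₁ := ⟨d, hd, (hsec T d).trans hd1⟩) (a₂ := ⟨d', hd', (hsec T d').trans hd1'⟩) e)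
  have hsurj : ∀ (T : Over (Spec (CommRingCat.of k))) (w : T ⟶ P), ∃ d : PicF.Cl (A ⊗ T).left,
      PicF.IsInvertibleCl d ∧ pl (lift (1 : T ⟶ A) (𝟙 T)) d = 1 ∧ φ T d = w := fun T w => by
    obtain ⟨⟨d, hd, hd1⟩, h⟩ := (hbij T).2 w
    exact ⟨d, hd, (hsec T d).symm.trans hd1, h⟩
  -- a neighbourhood of every rational point
  have hnbhd : ∀ w₀ : pt₀ ⟶ P, ∃ (V : P.left.Opens) (U : Q.left.Opens) (e : U.toScheme ≅ V.toScheme),
      w₀.left (closedPoint k) ∈ V ∧ e.hom ≫ V.ι ≫ P.hom = U.ι ≫ Q.hom ∧ (U : Set Q.left).Nonempty := fun w₀ => by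
    obtain ⟨M₀, hM₀i, hM₀1, hM₀⟩ := hsurj pt₀ w₀
    let m₀ : PicF.Cl A.left := pl (lift (𝟙 A) (toUnit A)) M₀
    have hm₀ : pl (fst A pt₀) m₀ = M₀ := by
      rw [pl_pl, show fst A pt₀ ≫ lift (𝟙 A) (toUnit A) = 𝟙 _ by
        apply CartesianMonoidalCategory.hom_ext
        · simp
        · exact toUnit_unique _ _, pl_id]
    have hm₀i : PicF.IsInvertibleCl m₀ := isInv_pl _ hM₀i
    have hm₀1 : ∀ T : Over (Spec (CommRingCat.of k)), pl (1 : T ⟶ A) m₀ = 1 := fun T => by
      rw [Hom.one_def, pl_const hm₀i]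
    let io : Q ⟶ P := φ Q (c * pl (fst A Q) m₀)
    have hcm : PicF.IsInvertibleCl (c * pl (fst A Q) m₀) := PicMul.isInvertibleCl_mul hc.inv (isInv_pl _ hm₀i)
    have hnat : ∀ {T : Over (Spec (CommRingCat.of k))} (z : T ⟶ Q),
        φ T (pl (A ◁ z) c * pl (fst A T) m₀) = z ≫ io := fun {T} z => by
      have h := hP.natural Q T z _ hcm
      rw [← h]
      refine congrArg (φ T) ?_
      show _ = pl (A ◁ z) (c * pl (fst A Q) m₀)
      rw [map_mul]
      congr 1
      rw [pl_pl (A ◁ z) (fst A Q) m₀, whiskerLeft_fst]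
    have hrig : ∀ {T : Over (Spec (CommRingCat.of k))} (z : T ⟶ Q),
        pl (lift (1 : T ⟶ A) (𝟙 T)) (pl (A ◁ z) c * pl (fst A T) m₀) = 1 := fun {T} z => by
      rw [map_mul, pl_pl, pl_pl, lift_fst, hm₀1, lift_whiskerLeft, Category.id_comp, _root_.mul_one,
        show lift (1 : T ⟶ A) z = z ≫ lift (1 : Q ⟶ A) (𝟙 Q) by
          rw [comp_lift, MonObj.comp_one, Category.comp_id], ← pl_pl, hc.rig, map_one]
    have hzi : ∀ {T : Over (Spec (CommRingCat.of k))} (z : T ⟶ Q),
        PicF.IsInvertibleCl (pl (A ◁ z) c * pl (fst A T) m₀) := fun z =>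
      PicMul.isInvertibleCl_mul (isInv_pl _ hc.inv) (isInv_pl _ hm₀i)
    haveI : Mono io := ⟨fun {T} z z' h => hc.injective z z' ((PicMul.isUnit_of_isInvertibleCl
      (isInv_pl (fst A T) hm₀i)).mul_right_cancel
        (hinj T _ _ (hzi z) (hrig z) (hzi z') (hrig z') (by rw [hnat, hnat, h])))⟩
    have hι1 : (1 : pt₀ ⟶ Q) ≫ io = w₀ := by rw [← hnat, hc.one, _root_.one_mul, hm₀, hM₀]
    obtain ⟨U, hqU, hU⟩ := exists_open_immersion_of_artin io (1 : pt₀ ⟶ Q) fun R _ _ _ _ εR w hw => by
      obtain ⟨d, hd, hd1, hdw⟩ := hsurj (TR k R) w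
      obtain ⟨n, hn, hmn⟩ := AVPair.exists_inv hm₀i
      have he0 : pl (A ◁ pR εR) d = M₀ := by
        refine hinj pt₀ _ _ (isInv_pl _ hd) ?_ hM₀i hM₀1 ?_
        · rw [pl_pl, lift_whiskerLeft, Category.id_comp,
            show lift (1 : pt₀ ⟶ A) (pR εR) = pR εR ≫ lift (1 : TR k R ⟶ A) (𝟙 _) by
              rw [comp_lift, MonObj.comp_one, Category.comp_id], ← pl_pl, hd1, map_one]
        · rw [hM₀, show φ pt₀ (pl (A ◁ pR εR) d) = pR εR ≫ φ (TR k R) d from hP.natural _ _ (pR εR) d hd, hdw, hw,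
            hι1]
      obtain ⟨z, hz⟩ := hc.exists_point_artin g hg hgQ εR (e := d * pl (fst A (TR k R)) n)
        (PicMul.isInvertibleCl_mul hd (isInv_pl _ hn)) (by
          rw [map_mul, he0, ← hm₀, pl_pl (A ◁ pR εR) (fst A (TR k R)) n, whiskerLeft_fst]
          exact ((map_mul (pl (fst A pt₀)) m₀ n).symm.trans (by rw [hmn, map_one])))
      have hde : d = pl (A ◁ z) c * pl (fst A (TR k R)) m₀ := by
        rw [← hz, _root_.mul_assoc, ← map_mul, _root_.mul_comm n, hmn, map_one, _root_.mul_one]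
      refine ⟨z, ?_, by rw [← hnat, ← hde, hdw]⟩
      rw [← cancel_mono io, Category.assoc, ← hnat z, ← hde, hdw, hw]
    haveI := hU
    let j := U.ι ≫ io.left
    refine ⟨j.opensRange, U, j.isoOpensRange, ?_, ?_, ⟨_, hqU⟩⟩
    · exact ⟨⟨_, hqU⟩, by rw [← hι1, Over.comp_left]; rfl⟩
    · rw [Scheme.Hom.isoOpensRange_hom_ι_assoc, Category.assoc, Over.w]
  haveI : JacobsonSpace P.left := LocallyOfFiniteType.jacobsonSpace P.hom
  have hcl : ∀ p : closedPoints P.left, ∃ (V : P.left.Opens) (U : Q.left.Opens) (e : U.toScheme ≅ V.toScheme),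
      p.1 ∈ V ∧ e.hom ≫ V.ι ≫ P.hom = U.ι ≫ Q.hom ∧ (U : Set Q.left).Nonempty := fun p => by
    obtain ⟨w₀, hw₀⟩ := exists_rational (mem_closedPoints_iff.1 p.2)
    exact hw₀ ▸ hnbhd w₀
  choose V U e hmem hfac hne using hcl
  have hcov : ⨆ p, V p = ⊤ := by
    refine eq_top_iff.2 fun x _ => ?_
    by_contra hx
    obtain ⟨y, hy, hyc⟩ := nonempty_inter_closedPoints (X := P.left) (Z := ((⨆ p, V p : P.left.Opens) : Set P.left)ᶜ)
      ⟨x, hx⟩ (⨆ p, V p).isOpen.isClosed_compl.isLocallyClosed
    exact hy (Opens.mem_iSup.2 ⟨⟨y, hyc⟩, hmem _⟩)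
  refine ⟨IsZariskiLocalAtSource.of_iSup_eq_top V hcov fun p => ?_, ?_⟩
  · rw [show (V p).ι ≫ P.hom = (e p).inv ≫ (U p).ι ≫ Q.hom by rw [← hfac, Iso.inv_hom_id_assoc]]
    infer_instance
  · rw [S5798.result P.left (closedPoints P.left) V hcov]
    have hdim : ∀ p, topologicalKrullDim (V p) = g := fun p => by
      letI : Q.left.Over (Spec (CommRingCat.of k)) := ⟨Q.hom⟩
      haveI : LocallyOfFiniteType (Q.left ↘ Spec (CommRingCat.of k)) := inferInstanceAs (LocallyOfFiniteType Q.hom)
      refine ((TopCat.homeoOfIso (Scheme.forgetToTop.mapIso (e p))).symm.isHomeomorph.topologicalKrullDim_eq).trans ?_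
      exact (S1618.result k Q.left (U p) (hne p)).trans hgQ
    obtain ⟨w₀, -, -, hw₀⟩ := hsurj pt₀ (φ pt₀ (1 : PicF.Cl (A ⊗ pt₀).left))
    haveI : Nonempty (closedPoints P.left) := ⟨⟨(φ pt₀ w₀).left (closedPoint k), isClosed_rational _⟩⟩
    exact (iSup_congr hdim).trans iSup_const

end Groth.Agent.AVPicSmooth
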