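import Groth.Agent.AVPicSmooth.AlgClosed
import Groth.Agent.AVFieldDual.DualBC
import Groth.Agent.FibDim.BaseField
import Groth.Agent.H23.BcComp
import Mathlib.AlgebraicGeometry.Morphisms.LocalFlatDescent

/-!
# The Picard scheme of an abelian variety over any field
-/

noncomputable section

set_option autoImplicit false
set_option linter.style.haveILetI false
set_option linter.unusedSectionVars false
set_option backward.isDefEq.respectTransparency false
set_option backward.isDefEq.respectTransparency.types false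
set_option maxHeartbeats 1000000

universe u

open CategoryTheory CategoryTheory.Limits MonoidalCategory CartesianMonoidalCategory MonObj AlgebraicGeometry

namespace Groth.Agent.AVPicSmooth

open Groth.Agent Groth.Agent.AVField
open scoped Groth.Agent.H23.PicMul

variable {S S' : Scheme.{u}} (q : S' ⟶ S) {A At : Over S}

/-- **The base change of a Picard scheme is a Picard scheme.** -/
theorem isRelPicK_bc {φ : AgPol.DualMap A At} (h : AbDual.IsRelPicK Scheme.fppfPrecoverage A.hom At φ) :
    AbDual.IsRelPicK Scheme.fppfPrecoverage (Red.bc q A).hom (Red.bc q At) (AgPol.bcDual q A At φ) := by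
  refine ⟨fun T T' g c hc => ?_, fun T g => ?_, fun T c c' hc hc' e => ?_⟩
  · refine Over.OverMorphism.ext (pullback.hom_ext ?_ ?_)
    · rw [bcDual_fst, Over.comp_left, Category.assoc, bcDual_fst, PicClLib.pullCl_comp, bcXTIso_inv_map,
        ← PicClLib.pullCl_comp, h.natural _ _ (mapOver q g) _ (PicClLib.isInvertibleCl_pullCl _ hc)]
      rfl
    · exact (Over.w _).trans (Over.w (g ≫ AgPol.bcDual q A At φ T c)).symm
  · let g' : Over.mk (T.hom ≫ q) ⟶ At := Over.homMk (g.left ≫ pullback.fst At.hom q) (by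
      show _ = T.hom ≫ q
      rw [Category.assoc, pullback.condition, ← Category.assoc]
      exact congrArg (· ≫ q) (Over.w g))
    obtain ⟨R, hR, hRe⟩ := h.locallySurjective _ g'
    refine ⟨R, hR, fun U u hu => ?_⟩
    obtain ⟨c, hc, hφc⟩ := hRe u hu
    let j : Over.mk ((AbDual.ovr T u).hom ≫ q) ⟶ AbDual.ovr (Over.mk (T.hom ≫ q)) u :=
      Over.homMk (𝟙 U) ((Category.id_comp _).trans (Category.assoc _ _ _).symm)
    let c₁ := PicF.pullCl (PicF.XTmap A.hom j) c
    have hc₁ := PicClLib.isInvertibleCl_pullCl (PicF.XTmap A.hom j) hc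
    refine ⟨PicF.pullCl (AgPol.bcXTIso q A (AbDual.ovr T u)).hom c₁, PicClLib.isInvertibleCl_pullCl _ hc₁, ?_⟩
    refine Over.OverMorphism.ext (pullback.hom_ext ?_ ?_)
    · rw [bcDual_fst, PicClLib.pullCl_comp, Iso.inv_hom_id, PicClLib.pullCl_id, h.natural _ _ j _ hc, hφc]
      show 𝟙 U ≫ u ≫ g.left ≫ pullback.fst At.hom q = (u ≫ g.left) ≫ pullback.fst At.hom q
      rw [Category.id_comp, Category.assoc]
    · exact (Over.w _).trans (Over.w (AbDual.ovrHom T u ≫ g)).symm
  · have e' : φ (Over.mk (T.hom ≫ q)) (PicF.pullCl (AgPol.bcXTIso q A T).inv c) =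
        φ (Over.mk (T.hom ≫ q)) (PicF.pullCl (AgPol.bcXTIso q A T).inv c') :=
      Over.OverMorphism.ext (by rw [← bcDual_fst, ← bcDual_fst, e])
    obtain ⟨R, hR, hRe⟩ := h.locallyInjective _ _ _ (PicClLib.isInvertibleCl_pullCl _ hc) (PicClLib.isInvertibleCl_pullCl _ hc') e'
    refine ⟨R, hR, fun U u hu => ?_⟩
    let j : Over.mk ((AbDual.ovr T u).hom ≫ q) ⟶ AbDual.ovr (Over.mk (T.hom ≫ q)) u :=
      Over.homMk (𝟙 U) ((Category.id_comp _).trans (Category.assoc _ _ _).symm)
    have hm : mapOver q (AbDual.ovrHom T u) = j ≫ AbDual.ovrHom (Over.mk (T.hom ≫ q)) u :=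
      Over.OverMorphism.ext (Category.id_comp u).symm
    have key := congrArg (PicF.pullCl (PicF.XTmap A.hom j)) (hRe u hu)
    simp only [PicClLib.pullCl_comp] at key
    rw [← Category.assoc, ← PicClLib.XTmap_comp, ← hm] at key
    have key' := congrArg (PicF.pullCl (AgPol.bcXTIso q A (AbDual.ovr T u)).hom) key
    simp only [PicClLib.pullCl_comp, Category.assoc, ← bcXTIso_inv_map, Iso.hom_inv_id_assoc] at key'
    exact key'

end Groth.Agent.AVPicSmooth
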